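import Mathlib
set_option linter.all false

/-!
Pairings of finite groups into the multiplicative group of a field, and commutator pairings.
-/

set_option autoImplicit false
set_option linter.style.haveILetI false

namespace Cfsg.Agent.H348.Trans

/-- A finite group has at most as many homomorphisms to the units of a field as elements. -/
theorem card_hom_le (E K : Type*) [Group E] [Finite E] [Field K] :
    Finite (E →* Kˣ) ∧ Nat.card (E →* Kˣ) ≤ Nat.card E := by
  classical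
  haveI := Fintype.ofFinite E
  have h1 := linearIndependent_monoidHom E K
  have hinj : Function.Injective (fun f : E →* Kˣ => (Units.coeHom K).comp f) := by
    intro f g hfg
    ext x
    exact DFunLike.congr_fun hfg x
  have h2 : LinearIndependent K (fun f : E →* Kˣ => (((Units.coeHom K).comp f : E →* K) : E → K)) :=
    h1.comp _ hinj
  have hfin : Finite (E →* Kˣ) := h2.finite
  haveI := Fintype.ofFinite (E →* Kˣ)
  refine ⟨hfin, ?_⟩
  have h3 := h2.fintype_card_le_finrank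
  rwa [Module.finrank_fintype_fun_eq_card, ← Nat.card_eq_fintype_card, ← Nat.card_eq_fintype_card] at h3

/-- A pairing with values in the units of a field: the index of the left kernel is at most the index of the
right kernel. -/
theorem index_ker_le {E F K : Type*} [Group E] [Group F] [Finite F] [Field K]
    (β : E →* (F →* Kˣ)) (R : Subgroup F) [R.Normal] (hR : ∀ f, f ∈ R ↔ ∀ e, β e f = 1) :
    β.ker.index ≤ R.index := by
  classical
  haveI : Finite (F ⧸ R) := Quotient.finite _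
  obtain ⟨hfin, hle⟩ := card_hom_le (F ⧸ R) K
  rw [Subgroup.index_ker]
  -- the range embeds in the homomorphisms of the quotient
  have hlift : ∀ e : E, R ≤ (β e).ker := fun e f hf => (hR f).1 hf e
  let g : β.range → (F ⧸ R →* Kˣ) := fun φ => QuotientGroup.lift R φ.1 (by
    obtain ⟨e, he⟩ := φ.2
    intro f hf
    rw [← he]
    exact hlift e hf)
  have hg : Function.Injective g := by
    intro φ ψ h
    apply Subtype.ext
    ext f
    have h1 := DFunLike.congr_fun h (f : F ⧸ R)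
    exact congrArg Units.val h1
  exact (Nat.card_le_card_of_injective g hg).trans hle

/-- The commutator pairing. -/
def commPairing {H K : Type*} [Group H] [Field K] (A X Y : Subgroup H) (ι : A →* Kˣ)
    (hXY : ∀ x ∈ X, ∀ y ∈ Y, x * y * x⁻¹ * y⁻¹ ∈ A) (hX : ∀ x ∈ X, ∀ a ∈ A, x * a = a * x)
    (hY : ∀ y ∈ Y, ∀ a ∈ A, y * a = a * y) : X →* (Y →* Kˣ) where
  toFun x :=
    { toFun := fun y => ι ⟨x * y * (x : H)⁻¹ * (y : H)⁻¹, hXY x x.2 y y.2⟩
      map_one' := by
        have : (⟨(x : H) * (1 : Y) * (x : H)⁻¹ * ((1 : Y) : H)⁻¹, hXY x x.2 _ (1 : Y).2⟩ : A) = 1 := by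
          apply Subtype.ext
          simp
        rw [this, map_one]
      map_mul' := by
        intro y z
        rw [← map_mul]
        congr 1
        apply Subtype.ext
        change (x : H) * (y * z) * (x : H)⁻¹ * (y * z : H)⁻¹ =
          (x * y * (x : H)⁻¹ * (y : H)⁻¹) * (x * z * (x : H)⁻¹ * (z : H)⁻¹)
        have h1 := hY y y.2 _ (hXY x x.2 z z.2)
        calc (x : H) * (y * z) * (x : H)⁻¹ * (y * z : H)⁻¹
            = x * y * (x : H)⁻¹ * (x * z * (x : H)⁻¹ * (z : H)⁻¹) * (y : H)⁻¹ := by group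
          _ = x * y * (x : H)⁻¹ * ((y : H)⁻¹ * (y * (x * z * (x : H)⁻¹ * (z : H)⁻¹))) * (y : H)⁻¹ := by
              rw [inv_mul_cancel_left]
          _ = x * y * (x : H)⁻¹ * ((y : H)⁻¹ * ((x * z * (x : H)⁻¹ * (z : H)⁻¹) * y)) * (y : H)⁻¹ := by
              rw [h1]
          _ = _ := by group }
  map_one' := by
    ext y
    have : (⟨((1 : X) : H) * y * ((1 : X) : H)⁻¹ * (y : H)⁻¹, hXY _ (1 : X).2 y y.2⟩ : A) = 1 := by
      apply Subtype.ext
      simp
    change ((ι ⟨((1 : X) : H) * y * ((1 : X) : H)⁻¹ * (y : H)⁻¹, _⟩ : Kˣ) : K) = ((1 : Kˣ) : K)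
    rw [this, map_one]
  map_mul' := by
    intro x w
    ext y
    change ((ι ⟨((x * w : X) : H) * y * ((x * w : X) : H)⁻¹ * (y : H)⁻¹, _⟩ : Kˣ) : K) =
      ((ι ⟨x * y * (x : H)⁻¹ * (y : H)⁻¹, _⟩ * ι ⟨w * y * (w : H)⁻¹ * (y : H)⁻¹, _⟩ : Kˣ) : K)
    rw [← map_mul]
    congr 2
    apply Subtype.ext
    change (x * w : H) * y * (x * w : H)⁻¹ * (y : H)⁻¹ =
      (x * y * (x : H)⁻¹ * (y : H)⁻¹) * (w * y * (w : H)⁻¹ * (y : H)⁻¹)
    have h1 := hX x x.2 _ (hXY w w.2 y y.2)
    have h2 := hY y y.2 _ (hXY w w.2 y y.2)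
    have h3 : (x : H) * (w * y * (w : H)⁻¹ * (y : H)⁻¹) * (x : H)⁻¹ = w * y * (w : H)⁻¹ * (y : H)⁻¹ := by
      rw [h1, mul_inv_cancel_right]
    have h4 : (y : H) * (w * y * (w : H)⁻¹ * (y : H)⁻¹) * (y : H)⁻¹ = w * y * (w : H)⁻¹ * (y : H)⁻¹ := by
      rw [h2, mul_inv_cancel_right]
    calc (x * w : H) * y * (x * w : H)⁻¹ * (y : H)⁻¹
        = ((x : H) * (w * y * (w : H)⁻¹ * (y : H)⁻¹) * (x : H)⁻¹) * (x * y * (x : H)⁻¹ * (y : H)⁻¹) := by
          group
      _ = (w * y * (w : H)⁻¹ * (y : H)⁻¹) * (x * y * (x : H)⁻¹ * (y : H)⁻¹) := by rw [h3]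
      _ = (x * y * (x : H)⁻¹ * (y : H)⁻¹) * (w * y * (w : H)⁻¹ * (y : H)⁻¹) := by
          have h5 := hX x x.2 _ (hXY w w.2 y y.2)
          have h6 : (x : H)⁻¹ * (w * y * (w : H)⁻¹ * (y : H)⁻¹) = (w * y * (w : H)⁻¹ * (y : H)⁻¹) * (x : H)⁻¹ := by
            rw [inv_mul_eq_iff_eq_mul, ← mul_assoc, h5, mul_inv_cancel_right]
          have h7 : (y : H)⁻¹ * (w * y * (w : H)⁻¹ * (y : H)⁻¹) = (w * y * (w : H)⁻¹ * (y : H)⁻¹) * (y : H)⁻¹ := by
            rw [inv_mul_eq_iff_eq_mul, ← mul_assoc, h2, mul_inv_cancel_right]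
          symm
          rw [mul_assoc ((x : H) * y * (x : H)⁻¹), h7, ← mul_assoc, mul_assoc ((x : H) * y) (x : H)⁻¹, h6,
            ← mul_assoc ((x : H) * y), mul_assoc (x : H) (y : H), h2, ← mul_assoc (x : H), h5]
          group

theorem index_ker_eq {E F K : Type*} [Group E] [Finite E] [Group F] [Finite F] [Field K]
    (β : E →* (F →* Kˣ)) : β.ker.index = β.flip.ker.index := by
  apply le_antisymm
  · refine index_ker_le β β.flip.ker ?_
    intro f
    rw [MonoidHom.mem_ker, MonoidHom.ext_iff]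
    rfl
  · refine index_ker_le β.flip β.ker ?_
    intro f
    rw [MonoidHom.mem_ker, MonoidHom.ext_iff]
    rfl

/-- Duality for the commutator pairing. -/
theorem relIndex_centralizer_eq {H K : Type*} [Group H] [Finite H] [Field K] (A X Y : Subgroup H)
    (ι : A →* Kˣ) (hι : Function.Injective ι)
    (hXY : ∀ x ∈ X, ∀ y ∈ Y, x * y * x⁻¹ * y⁻¹ ∈ A) (hX : ∀ x ∈ X, ∀ a ∈ A, x * a = a * x)
    (hY : ∀ y ∈ Y, ∀ a ∈ A, y * a = a * y) :
    (Subgroup.centralizer (Y : Set H)).relIndex X = (Subgroup.centralizer (X : Set H)).relIndex Y := by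
  have h0 : ∀ x ∈ X, ∀ y ∈ Y, ∀ (h : x * y * x⁻¹ * y⁻¹ ∈ A), ι ⟨x * y * x⁻¹ * y⁻¹, h⟩ = 1 ↔ y * x = x * y := by
    intro x _ y _ h
    rw [map_eq_one_iff ι hι, ← Subtype.coe_inj]
    change x * y * x⁻¹ * y⁻¹ = 1 ↔ _
    rw [mul_inv_eq_one, mul_inv_eq_iff_eq_mul]
    exact eq_comm
  have h1 : (commPairing A X Y ι hXY hX hY).ker = (Subgroup.centralizer (Y : Set H)).subgroupOf X := by
    ext x
    rw [MonoidHom.mem_ker, MonoidHom.ext_iff, Subgroup.mem_subgroupOf, Subgroup.mem_centralizer_iff]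
    constructor
    · intro h y hy
      exact (h0 x x.2 y hy _).1 (h ⟨y, hy⟩)
    · intro h y
      exact (h0 x x.2 y y.2 _).2 (h y y.2)
  have h2 : (commPairing A X Y ι hXY hX hY).flip.ker = (Subgroup.centralizer (X : Set H)).subgroupOf Y := by
    ext y
    rw [MonoidHom.mem_ker, MonoidHom.ext_iff, Subgroup.mem_subgroupOf, Subgroup.mem_centralizer_iff]
    constructor
    · intro h x hx
      exact ((h0 x hx y y.2 _).1 (h ⟨x, hx⟩)).symm
    · intro h x
      exact (h0 x x.2 y y.2 _).2 (h x x.2).symm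
  have h3 := index_ker_eq (commPairing A X Y ι hXY hX hY)
  rw [h1, h2] at h3
  exact h3

/-- If `W / A` is nondegenerate for the commutator pairing then its order is a square. -/
theorem exists_sq {H K : Type*} [Group H] [Finite H] [Field K] (A W : Subgroup H) (hAW : A ≤ W)
    (ι : A →* Kˣ) (hι : Function.Injective ι)
    (hWW : ∀ x ∈ W, ∀ y ∈ W, x * y * x⁻¹ * y⁻¹ ∈ A) (hWA : ∀ x ∈ W, ∀ a ∈ A, x * a = a * x)
    (hnd : W ⊓ Subgroup.centralizer (W : Set H) ≤ A) : ∃ j : ℕ, A.relIndex W = j ^ 2 := by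
  classical
  -- a maximal abelian subgroup
  obtain ⟨Y, ⟨hAY, hYW, hYY⟩, hmax⟩ := (Set.toFinite {Y : Subgroup H | A ≤ Y ∧ Y ≤ W ∧
    ∀ a ∈ Y, ∀ b ∈ Y, a * b = b * a}).exists_maximal
    ⟨A, le_rfl, hAW, fun a ha b hb => hWA a (hAW ha) b hb⟩
  have hC : W ⊓ Subgroup.centralizer (Y : Set H) ≤ Y := by
    intro c hc
    obtain ⟨hcW, hcY⟩ := Subgroup.mem_inf.1 hc
    rw [Subgroup.mem_centralizer_iff] at hcY
    set Z := Subgroup.closure ((Y : Set H) ∪ {c}) with hZ
    have hYZ : Y ≤ Z := fun y hy => Subgroup.subset_closure (Or.inl hy)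
    have hcZ : c ∈ Z := Subgroup.subset_closure (Or.inr rfl)
    have hZc : IsMulCommutative Z := by
      apply Subgroup.isMulCommutative_closure
      rintro a (ha | rfl) b (hb | hb)
      · exact hYY a ha b hb
      · rw [Set.mem_singleton_iff] at hb
        rw [hb]; exact hcY a ha
      · exact (hcY b hb).symm
      · rw [Set.mem_singleton_iff] at hb
        rw [hb]
    have hZmem : Z ∈ {Y : Subgroup H | A ≤ Y ∧ Y ≤ W ∧ ∀ a ∈ Y, ∀ b ∈ Y, a * b = b * a} := by
      refine ⟨hAY.trans hYZ, ?_, ?_⟩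
      · rw [hZ, Subgroup.closure_le]
        rintro a (ha | ha)
        · exact hYW ha
        · rw [Set.mem_singleton_iff] at ha
          rw [ha]; exact hcW
      · intro a ha b hb
        exact congrArg Subtype.val (isMulCommutative_iff.1 hZc ⟨a, ha⟩ ⟨b, hb⟩)
    exact hmax hZmem hYZ hcZ
  have h1 := relIndex_centralizer_eq A W Y ι hι (fun x hx y hy => hWW x hx y (hYW hy)) hWA
    (fun y hy => hWA y (hYW hy))
  have h2 : (Subgroup.centralizer (Y : Set H)).relIndex W = Y.relIndex W := by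
    have h3 : Y = Subgroup.centralizer (Y : Set H) ⊓ W := by
      apply le_antisymm
      · refine le_inf ?_ hYW
        intro y hy
        rw [Subgroup.mem_centralizer_iff]
        exact fun z hz => hYY z hz y hy
      · rw [inf_comm]; exact hC
    conv_rhs => rw [h3]
    rw [Subgroup.inf_relIndex_right]
  have h3 : (Subgroup.centralizer (W : Set H)).relIndex Y = A.relIndex Y := by
    have h4 : A = Subgroup.centralizer (W : Set H) ⊓ Y := by
      apply le_antisymm
      · refine le_inf ?_ hAY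
        intro a ha
        rw [Subgroup.mem_centralizer_iff]
        exact fun z hz => hWA z hz a ha
      · intro y hy
        obtain ⟨h5, h6⟩ := Subgroup.mem_inf.1 hy
        exact hnd (Subgroup.mem_inf.2 ⟨hYW h6, h5⟩)
    conv_rhs => rw [h4]
    rw [Subgroup.inf_relIndex_right]
  rw [h2, h3] at h1
  refine ⟨A.relIndex Y, ?_⟩
  rw [← Subgroup.relIndex_mul_relIndex A Y W hAY hYW, h1, sq]

end Cfsg.Agent.H348.Trans
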